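import Groth.Agent.L14.Chev.Cell.NegBase
import Groth.Agent.L14.Chev.Cell.Points
import Mathlib.GroupTheory.Perm.Basic
import Mathlib.Algebra.Order.BigOperators.Group.Finset

/-!
A set of roots containing a positive system and stable under the reflections in its symmetric roots is closed:
it is the set of roots on which an averaged height is non-negative.
-/

set_option autoImplicit false
set_option linter.style.haveILetI false
set_option linter.unusedSectionVars false
set_option backward.isDefEq.respectTransparency.types false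
universe u

open CategoryTheory AlgebraicGeometry

noncomputable section

namespace Groth.L15.ParRoots

open Groth.L14.Chev.Cell in
/-- A set of roots containing the positive roots and stable under its symmetric reflections is closed. -/
theorem closed_of_stable {S : Scheme.{u}} {G : Over S} [GrpObj G] (D : Red.SplitRed G) (b : D.P.Base) (R' : Set D.idx)
    (hpos : RedSub.posRoots D.P b ⊆ R')
    (hst : ∀ c ∈ RedSub.posRoots D.P b, D.P.reflectionPerm c c ∈ R' → ∀ d ∈ R', D.P.reflectionPerm c d ∈ R')
    {x y z : D.idx} (hx : x ∈ R') (hy : y ∈ R') (hxy : D.P.root x + D.P.root y = D.P.root z) : z ∈ R' := by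
  classical
  haveI : Finite D.idx := Finite.of_fintype _
  let neg : D.idx → D.idx := fun c => D.P.reflectionPerm c c
  have hneg : ∀ c, D.P.root (neg c) = -D.P.root c := root_neg' D.P
  have hpn : ∀ c, c ∈ RedSub.posRoots D.P b ∨ neg c ∈ RedSub.posRoots D.P b := fun c =>
    (b.root_mem_or_neg_mem c).imp id fun h => by
      show D.P.root (neg c) ∈ AddSubmonoid.closure (D.P.root '' (b.support : Set D.idx))
      rw [hneg]; exact h
  let gens : Set (Equiv.Perm D.idx) :=
    (fun c => D.P.reflectionPerm c) '' {c | c ∈ RedSub.posRoots D.P b ∧ neg c ∈ R'}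
  let H := Subgroup.closure gens
  haveI : Fintype H := Fintype.ofFinite H
  obtain ⟨lam, hl⟩ := hasLam b
  let f : D.idx → ℤ := fun c => ∑ g : H, lam (D.P.root ((g : Equiv.Perm D.idx) c))
  have hlin : ∀ g ∈ H, ∃ W : D.M ≃+ D.M, ∀ c, D.P.root (g c) = W (D.P.root c) := by
    intro g hg
    induction hg using Subgroup.closure_induction with
    | mem g hg =>
      obtain ⟨c, -, rfl⟩ := hg
      exact ⟨(D.P.reflection c).toAddEquiv, fun d => D.P.root_reflectionPerm c d⟩
    | one => exact ⟨AddEquiv.refl _, fun _ => rfl⟩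
    | mul g g' _ _ hg hg' =>
      obtain ⟨W, hW⟩ := hg; obtain ⟨W', hW'⟩ := hg'
      exact ⟨W'.trans W, fun c => by rw [Equiv.Perm.mul_apply, hW, hW']; rfl⟩
    | inv g _ hg =>
      obtain ⟨W, hW⟩ := hg
      refine ⟨W.symm, fun c => ?_⟩
      conv_rhs => rw [← Equiv.apply_symm_apply g c, hW, AddEquiv.symm_apply_apply]
      rfl
  have hstab : ∀ g ∈ H, ∀ d, g d ∈ R' ↔ d ∈ R' := by
    intro g hg
    induction hg using Subgroup.closure_induction with
    | mem g hg =>
      obtain ⟨c, ⟨hc, hc'⟩, rfl⟩ := hg
      refine fun d => ⟨fun h => ?_, fun h => hst c hc hc' d h⟩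
      have := hst c hc hc' _ h
      rwa [D.P.reflectionPerm_self] at this
    | one => exact fun d => Iff.rfl
    | mul g g' _ _ hg hg' => exact fun d => (hg _).trans (hg' d)
    | inv g _ hg => exact fun d => by rw [← hg, Equiv.Perm.inv_def, Equiv.apply_symm_apply]
  have hfneg : ∀ c, f (neg c) = -f c := fun c => by
    rw [← Finset.sum_neg_distrib]
    refine Finset.sum_congr rfl fun g _ => ?_
    obtain ⟨W, hW⟩ := hlin _ g.2
    rw [hW, hneg, map_neg, ← hW, map_neg]
  have hfsym : ∀ c ∈ RedSub.posRoots D.P b, neg c ∈ R' → f c = 0 := fun c hc hc' => by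
    let s : H := ⟨D.P.reflectionPerm c, Subgroup.subset_closure ⟨c, ⟨hc, hc'⟩, rfl⟩⟩
    have h1 : f (neg c) = f c :=
      Equiv.sum_comp (Equiv.mulRight s) fun g : H => lam (D.P.root ((g : Equiv.Perm D.idx) c))
    have h2 := hfneg c
    omega
  have hfpos : ∀ c ∈ R', neg c ∉ R' → 0 < f c := fun c hc hc' => by
    refine Finset.sum_pos (fun g _ => (hl _).1 ?_) ⟨1, Finset.mem_univ _⟩
    refine (hpn _).resolve_right fun h => hc' ((hstab _ g.2 _).1 ?_)
    obtain ⟨W, hW⟩ := hlin _ g.2
    have e : (g : Equiv.Perm D.idx) (neg c) = neg ((g : Equiv.Perm D.idx) c) :=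
      D.P.root.injective (by rw [hneg, hW, hW, hneg, map_neg])
    rw [e]
    exact hpos h
  have hiff : ∀ c, c ∈ R' ↔ 0 ≤ f c := fun c => by
    have hnn : neg (neg c) = c := D.P.root.injective (by rw [hneg, hneg, neg_neg])
    constructor
    · intro hc
      by_cases hc' : neg c ∈ R'
      · rcases hpn c with h | h
        · exact (hfsym c h hc').ge
        · have h1 := hfsym _ h (by rwa [hnn])
          have h2 := hfneg c
          omega
      · exact (hfpos c hc hc').le
    · intro hc
      by_contra hn
      have h1 := hfpos (neg c) (hpos ((hpn c).resolve_left fun h => hn (hpos h))) (by rwa [hnn])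
      have h2 := hfneg c
      omega
  have hadd : f z = f x + f y := by
    rw [← Finset.sum_add_distrib]
    refine Finset.sum_congr rfl fun g _ => ?_
    obtain ⟨W, hW⟩ := hlin _ g.2
    rw [hW, ← hxy, map_add, ← hW, ← hW, map_add]
  rw [hiff, hadd]
  exact add_nonneg ((hiff x).1 hx) ((hiff y).1 hy)

end Groth.L15.ParRoots

end
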