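import Groth.Agent.L15.ParRoots.Comb
import Groth.Agent.L14.Splitting.OppField
import Groth.Agent.L14.BorelLoc.FieldBorel
import Groth.Agent.L14.BorelLoc.Weyl
import Groth.Agent.L14.Chev.Cell.Generated
import Groth.Agent.L08.Borel.NormField
import Groth.Agent.L08.Borel.MaxTori
import Groth.Agent.L20.Unir.Families

/-!
Over an algebraically closed field, the roots of a parabolic subgroup containing the maximal torus contain a positive
system, and are closed.
-/

set_option autoImplicit false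
set_option linter.style.haveILetI false
set_option linter.unusedSectionVars false
set_option backward.isDefEq.respectTransparency.types false
set_option maxHeartbeats 1000000
universe u

open CategoryTheory CategoryTheory.Limits AlgebraicGeometry MonoidalCategory CartesianMonoidalCategory MonObj
open Groth.L14.RankOne Groth.L25 Groth.L14.Chart Groth.L14.Chev.Cell Groth.L14.TypeR

noncomputable section

namespace Groth.L15.ParRoots

variable {k : Type u} [Field k] [IsAlgClosed k] {G P : Over (Spec (CommRingCat.of k))} [GrpObj G] [GrpObj P]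
  (D : Red.SplitRed G) {p : P ⟶ G}

/-- A parabolic subgroup containing the torus contains a Borel subgroup containing the torus. -/
theorem exists_borel_containing (hP : Red.IsParabolicOver k p) (t : D.T ⟶ P) (ht : t ≫ p = D.i) :
    ∃ (B : Over (Spec (CommRingCat.of k))) (_ : GrpObj B) (iB : B ⟶ G) (tB : D.T ⟶ B) (φ : B ⟶ P),
      Red.IsBorel iB ∧ tB ≫ iB = D.i ∧ φ ≫ p = iB := by
  obtain ⟨hm, hc, hs, B, gB, bP, hB⟩ := id hP
  haveI := hm; haveI := hc; haveI := hs; haveI := hB.1; haveI := hB.2.1; haveI := hB.2.2.1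
  haveI : IsAffineHom G.hom := D.reductive.1
  haveI : Smooth G.hom := D.reductive.2.1
  haveI : IsAffine G.left := isAffine_of_isAffineHom G.hom
  haveI : ConnectedSpace G.left := Groth.L20.Unirat.connectedSpace_of_isReductive D.reductive
  haveI : ConnectedSpace P.left := Groth.L08.Borel.connectedSpace_parabolicOver hP
  haveI : IsAffine P.left := isAffine_of_isAffineHom p.left
  haveI : Mono p := Groth.L08.mono_of_closedImmersion p
  haveI : IsMonHom bP := Groth.L08.Borel.isMonHom_of_comp_mono bP p (bP ≫ p) rfl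
  haveI : IsClosedImmersion bP.left :=
    haveI : IsClosedImmersion (bP.left ≫ p.left) := hB.2.1
    IsClosedImmersion.of_comp bP.left p.left
  have hBP : Red.IsBorelOver k bP := by
    refine ⟨inferInstance, inferInstance, hB.2.2.1, hB.2.2.2.1, hB.2.2.2.2.1, fun B' _ i' _ f a1 a2 a3 a4 hf => ?_⟩
    haveI := a1
    haveI : IsClosedImmersion (i' ≫ p).left := inferInstanceAs (IsClosedImmersion (i'.left ≫ p.left))
    exact hB.2.2.2.2.2 B' (i' ≫ p) f inferInstance a2 a3 a4 (by rw [← Category.assoc, hf])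
  haveI := D.maximalTorus.1
  haveI : Mono D.i := haveI := D.maximalTorus.2.1; Over.mono_of_mono_left D.i
  haveI : IsMonHom t := Groth.L08.Borel.isMonHom_of_comp_mono t p D.i ht
  haveI : Mono t := by haveI : Mono (t ≫ p) := ht ▸ inferInstance; exact mono_of_mono t p
  obtain ⟨T₀, _, iT, -, -, -, -, -, -, -, -, habs⟩ := Groth.L08.Borel.exists_absorbing_of_borel hBP
  obtain ⟨g, f, hf⟩ := habs D.T t D.maximalTorus.2.2.1
  refine ⟨B, gB, AGF.conjBy (g⁻¹ ≫ p) (bP ≫ p), f ≫ iT, AGF.conjBy g⁻¹ bP,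
    Groth.L14.BorelLoc.isBorel_of_isBorelOver (Groth.L08.Borel.isBorelOver_conjBy hB _), ?_,
    Groth.L08.Borel.conjBy_comp _ _ _⟩
  have h1 : (f ≫ iT) ≫ AGF.conjBy g⁻¹ bP = t := by
    rw [Groth.L08.Borel.comp_conjBy, Category.assoc, hf, Groth.L08.Borel.conjBy_conjBy, inv_mul_cancel,
      Groth.L08.Borel.conjBy_one]
  rw [← Groth.L08.Borel.conjBy_comp, ← Category.assoc, h1, ht]

/-- The roots of a parabolic subgroup containing the torus. -/
theorem roots_props (hP : Red.IsParabolicOver k p) (t : D.T ⟶ P) (ht : t ≫ p = D.i) :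
    (∀ a, (∃ v, v ≫ p = D.u a) ∨ ∃ v, v ≫ p = D.u (D.P.reflectionPerm a a)) ∧
      ∀ a b c, (∃ v, v ≫ p = D.u a) → (∃ v, v ≫ p = D.u b) → D.P.root a + D.P.root b = D.P.root c →
        ∃ v, v ≫ p = D.u c := by
  obtain ⟨B, _, iB, tB, φ, hB, htB, hφ⟩ := exists_borel_containing D hP t ht
  obtain ⟨b, m, e, he, -, ψ, hψ⟩ := Groth.L14.Splitting.exists_base_eq_borel D hB tB htB
  haveI := hP.1; haveI := hP.2.1
  haveI : Mono p := Groth.L08.mono_of_closedImmersion p
  haveI := D.maximalTorus.1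
  haveI : ∀ a, IsMonHom (D.u a) := fun a => (D.rootHom a).1
  let R' : Set D.idx := {a | ∃ v, v ≫ p = D.u a}
  have hpos : RedSub.posRoots D.P b ⊆ R' := fun a ha => by
    obtain ⟨l, rfl⟩ : a ∈ Set.range e := by rw [he.2]; exact ha
    obtain ⟨q, hq⟩ := Groth.L14.Splitting.exists_single_tuple (𝟙 (Red.Ga _)) m (fun l => D.u (e l))
      (fun l => (D.rootHom _).1) l
    refine ⟨lift 1 q ≫ ψ.hom ≫ φ, ?_⟩
    rw [Category.assoc, Category.assoc, hφ, hψ]
    show lift 1 q ≫ ((fst _ _ ≫ D.i) * (snd _ _ ≫ _)) = _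
    rw [MonObj.comp_mul, lift_fst_assoc, lift_snd_assoc, hq, MonObj.one_comp, _root_.one_mul, Category.id_comp]
  refine ⟨fun a => (b.root_mem_or_neg_mem a).imp (fun h => hpos h) fun h => hpos (by
    show D.P.root (D.P.reflectionPerm a a) ∈ AddSubmonoid.closure (D.P.root '' (b.support : Set D.idx))
    rw [root_neg']; exact h), fun x y z hx hy hxy => closed_of_stable D b R' hpos (fun c hc hc' d hd => ?_) hx hy hxy⟩
  -- the reflection in a symmetric root is realised by a point of the parabolic subgroup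
  obtain ⟨n, hn⟩ := D.refl c
  obtain ⟨x₁, x₂, x₃, χ, hdec⟩ := exists_refl_decomp (R := k) (j := 𝟙 (Spec (CommRingCat.of k))) b hc
    (actsBy_of_refl hn)
  let w := toUnit (Sp (𝟙 (Spec (CommRingCat.of k))) k) ≫ n
  have hroot : ∀ (a : D.idx) (y : k), a ∈ R' →
      gp (𝟙 (Spec (CommRingCat.of k))) y ≫ D.u a ∈ HP (𝟙 _) k p := fun a y ⟨v, hv⟩ =>
    mem_HP.2 ⟨gp _ y ≫ v, by rw [Category.assoc, hv]⟩
  have hw : w ∈ HP (𝟙 _) k p := by
    rw [show w = _ from hdec]
    exact mul_mem (mul_mem (mul_mem (hroot c x₁ (hpos hc)) (torus_mem t ht χ)) (hroot _ x₂ hc')) (hroot c x₃ (hpos hc))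
  obtain ⟨y, hy⟩ := mem_HP.1 hw
  let e₀ : 𝟙_ (Over (Spec (CommRingCat.of k))) ⟶ Sp (𝟙 (Spec (CommRingCat.of k))) k := Over.homMk (𝟙 _) (by
    show 𝟙 _ ≫ Spec.map (CommRingCat.ofHom (algebraMap k k)) ≫ 𝟙 _ = 𝟙 _
    rw [Category.id_comp, Category.comp_id, Algebra.algebraMap_self]
    exact Spec.map_id _)
  have hnP : (e₀ ≫ y) ≫ p = n := by
    rw [Category.assoc, hy, ← Category.assoc, toUnit_unique (e₀ ≫ toUnit _) (𝟙 _), Category.id_comp]
  obtain ⟨v, hv⟩ := hd
  haveI := (affSmooth_ga (S := Spec (CommRingCat.of k))).1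
  refine exists_lift_of_univ _ _ fun R _ j _ => ?_
  obtain ⟨s, hs⟩ := exists_conj_scale (j := j) b (actsBy_of_refl hn) d
  let Y := gv (univ j (Red.Ga (Spec (CommRingCat.of k))))
  refine ⟨(toUnit _ ≫ e₀ ≫ y) * (gp j (algebraMap R _ ((s⁻¹ : Rˣ) : R) * Y) ≫ v) * (toUnit _ ≫ e₀ ≫ y)⁻¹, ?_⟩
  rw [MonObj.mul_comp, MonObj.mul_comp, GrpObj.inv_comp, Category.assoc, hnP, Category.assoc (gp j _) v p, hv, hs,
    ← gp_gv (univ j (Red.Ga (Spec (CommRingCat.of k)))), ← _root_.mul_assoc, ← map_mul, Units.mul_inv, map_one,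
    _root_.one_mul]

end Groth.L15.ParRoots

end
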