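import Groth.Agent.L15.ParRoots.Field
import Groth.Agent.L14.BorelLoc.TanPoint
import Groth.Agent.L14.AlmostSimple.Torus

/-!
Over a connected base the roots of a parabolic subgroup containing the torus are closed and contain every root up
to sign.
-/

set_option autoImplicit false
set_option linter.style.haveILetI false
set_option linter.unusedSectionVars false
set_option backward.isDefEq.respectTransparency.types false
set_option maxHeartbeats 1000000
universe u

open CategoryTheory CategoryTheory.Limits AlgebraicGeometry MonoidalCategory CartesianMonoidalCategory MonObj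
open Groth.L14.RankOne Groth.L25 Groth.L14.Chart Groth.L14.Chev.Cell Groth.L14.TypeR Groth.L14.BorelLoc

noncomputable section

namespace Groth.L15.ParRoots

variable {S : Scheme.{u}}

theorem geomPt_apply (s : S) (w : ↥(Spec (CommRingCat.of (AlgebraicClosure (S.residueField s))))) :
    Red.geomPt s w = s := by
  show (Spec.map _ ≫ S.fromSpecResidueField s) w = s
  rw [Scheme.Hom.comp_apply]
  exact S.fromSpecResidueField_apply s _

/-- The roots of a parabolic subgroup containing the torus are those of any geometric fibre. -/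
theorem roots_props_connected [ConnectedSpace S] {G P : Over S} [GrpObj G] [GrpObj P] (D : Red.SplitRed G)
    (p : P ⟶ G) (hP : Red.IsParabolic p) (t : D.T ⟶ P) (ht : t ≫ p = D.i) :
    (∀ a, (∃ v, v ≫ p = D.u a) ∨ ∃ v, v ≫ p = D.u (D.P.reflectionPerm a a)) ∧
      ∀ a b c, (∃ v, v ≫ p = D.u a) → (∃ v, v ≫ p = D.u b) → D.P.root a + D.P.root b = D.P.root c →
        ∃ v, v ≫ p = D.u c := by
  haveI := hP.1; haveI := hP.2.1; haveI := hP.2.2.1
  have hh : IsImmersion p.left := inferInstance
  obtain ⟨s⟩ := ‹ConnectedSpace S›.toNonempty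
  obtain ⟨b⟩ := Groth.L14.AlmostSimple.exists_base D
  obtain ⟨n, en, hen⟩ := exists_enum (D := D) (RedSub.negRoots D.P b)
  obtain ⟨m, ep, hep⟩ := exists_enum (D := D) (RedSub.posRoots D.P b)
  let j := Red.geomPt s
  haveI : IsMonHom ((Over.pullback j).map p) := Groth.L25.MonoClosed.isMonHom_pullbackMap _ _
  haveI : IsImmersion ((Over.pullback j).map p).left :=
    MorphismProperty.overPullbackMap (P := @IsImmersion) j p hh
  haveI : Smooth (Red.bc j P).hom := MorphismProperty.pullback_snd (P := @Smooth) _ _ hP.2.2.1
  have htj : (Over.pullback j).map t ≫ (Over.pullback j).map p = (Over.pullback j).map D.i := by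
    rw [← Functor.map_comp, ht]
  have key : ∀ a, (∃ v, v ≫ p = D.u a) ↔ ∃ v, v ≫ (Over.pullback j).map p = (splitBC j D).u a := fun a => by
    refine (mem_tanRoots_iff hen hep hh t ht a).trans (((mem_tanRoots_iff (D := splitBC j D) (b := b) hen hep
      inferInstance ((Over.pullback j).map t) htj a).trans (mem_tanRoots_bc_iff hen hep j hh a)).trans ?_).symm
    refine ⟨fun h x => ?_, fun h v => h _⟩
    have hs := h (IsLocalRing.closedPoint _)
    rw [geomPt_apply] at hs
    exact Set.eq_univ_iff_forall.1
      (((isClopen_iff.1 (isClopen_tanAt hen hep hh t ht a)).resolve_left (Set.Nonempty.ne_empty ⟨s, hs⟩))) x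
  obtain ⟨h1, h2⟩ := roots_props (splitBC j D) (hP.2.2.2 s) ((Over.pullback j).map t) htj
  exact ⟨fun a => (h1 a).imp (key a).2 (key _).2,
    fun a c e ha hc hac => (key e).2 (h2 a c e ((key a).1 ha) ((key c).1 hc) hac)⟩

end Groth.L15.ParRoots

end
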